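import Cfsg.Agent.Lib.Recog.AltNine.FarSylow.Setup
import Cfsg.Agent.Lib.TISylow.Setting
import Mathlib.GroupTheory.Transfer

/-!
# The solutions of `x y = z` lie in the centraliser of `a`
-/

set_option autoImplicit false

namespace CfsgLib.Recog.AltNine.FarSylow

open CfsgLib.TISylow (pairCount)

universe u

variable {G : Type u} [Group G] (D : Data G)

theorem Data.le_cent : D.T ≤ Subgroup.centralizer ({D.a} : Set G) := fun _ hx =>
  Subgroup.mem_centralizer_singleton_iff.2 (D.comm _ hx _ D.ha)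

theorem Data.mem_cent_of_commute [Finite G] {c x : G} (hc : c ∈ D.T) (hc1 : c ≠ 1)
    (h : Commute x c) : x ∈ Subgroup.centralizer ({D.a} : Set G) := by
  obtain ⟨w, rfl⟩ := D.exists_el hc
  by_cases hw : w.2 = 0
  · refine Subgroup.mem_centralizer_singleton_iff.2 ?_
    have e : D.el w = D.a ^ w.1.val := by simp [Data.el, hw]
    have hne : w.1.val ≠ 0 := fun h0 => hc1 (by rw [e, h0, pow_zero])
    have hlt := ZMod.val_lt w.1
    have h2 : w.1.val = 1 ∨ w.1.val = 2 := by omega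
    rcases h2 with h2 | h2
    · rw [e, h2, pow_one] at h
      exact h.eq
    · have h3 := h.pow_right 2
      rw [e, h2, ← pow_mul, ← D.pow_mod D.ha] at h3
      simpa using h3.eq
  · exact D.le_cent (D.mem_of_commute hw h.eq)

theorem Data.mem_cent_of_mul [Finite G] {v1 v2 z : V9} (hv1 : v1.2 ≠ 0) (hz : z.2 ≠ 0)
    (h1 : v2 ≠ v1) (h2 : v2 ≠ -v1) {g k : G}
    (h : g * D.el v1 * g⁻¹ * (k * D.el v2 * k⁻¹) = D.el z) :
    g * D.el v1 * g⁻¹ ∈ Subgroup.centralizer ({D.a} : Set G) ∧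
      k * D.el v2 * k⁻¹ ∈ Subgroup.centralizer ({D.a} : Set G) := by
  have hc3 : ∀ (g : G) (v : V9), (g * D.el v * g⁻¹) ^ 3 = 1 := fun g v => by
    rw [conj_pow, D.cube _ (D.el_mem v), mul_one, mul_inv_cancel]
  obtain ⟨c, hc1, -, hxc, hcy⟩ := exists_commute_three (hc3 g v1) (hc3 k v2)
    (by rw [h]; exact D.cube _ (D.el_mem z)) (fun hcj => D.not_isConj hv1 h1 h2
      ((isConj_iff.2 ⟨g, rfl⟩).trans (hcj.trans (isConj_iff.2 ⟨k, rfl⟩).symm)))
  have hcT : c ∈ D.T := by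
    refine D.mem_of_commute hz ?_
    have := hxc.symm.mul_right hcy
    rw [h] at this
    exact this.eq
  exact ⟨D.mem_cent_of_commute hcT hc1 hxc, D.mem_cent_of_commute hcT hc1 hcy.symm⟩

/-- the retraction of the centraliser of `a` onto its Sylow subgroup -/
structure Retr where
  ph : Subgroup.centralizer ({D.a} : Set G) →* D.T
  inj : ∀ v w : V9, ph ⟨D.el v, D.le_cent (D.el_mem v)⟩ = ph ⟨D.el w, D.le_cent (D.el_mem w)⟩ → v = w
  conj : ∀ v : V9, v.2 ≠ 0 → ∀ x : Subgroup.centralizer ({D.a} : Set G),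
    IsConj (D.el v) (x : G) →
    ph x = ph ⟨D.el v, D.le_cent (D.el_mem v)⟩ ∨
      ph x = ph ⟨D.el (-v), D.le_cent (D.el_mem (-v))⟩
  ker_card : 9 * Nat.card ph.ker = Nat.card (Subgroup.centralizer ({D.a} : Set G))
  ker_coprime : ¬ 3 ∣ Nat.card ph.ker

theorem Data.exists_retr [Finite G] (P : Sylow 3 G) (hP : (P : Subgroup G) = D.T) :
    Nonempty (Retr D) := by
  haveI : Fact (Nat.Prime 3) := ⟨Nat.prime_three⟩
  set C := Subgroup.centralizer ({D.a} : Set G)
  have hle : (P : Subgroup G) ≤ C := hP ▸ D.le_cent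
  let Q : Sylow 3 C := P.subtype hle
  have hQmem : ∀ x : C, x ∈ (Q : Subgroup C) ↔ (x : G) ∈ D.T := fun x => by
    show x ∈ (P : Subgroup G).subgroupOf C ↔ _
    rw [Subgroup.mem_subgroupOf, hP]
  have hN : Subgroup.normalizer ((Q : Subgroup C) : Set C) ≤
      Subgroup.centralizer ((Q : Subgroup C) : Set C) := by
    intro n hn
    have hnN : (n : G) ∈ Subgroup.normalizer (D.T : Set G) := by
      refine Subgroup.mem_normalizer_iff.2 fun u => ?_
      constructor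
      · intro hu
        have h := (Subgroup.mem_normalizer_iff.1 hn ⟨u, D.le_cent hu⟩).1 ((hQmem _).2 hu)
        exact (hQmem _).1 h
      · intro hu
        have huC : u ∈ C := by
          have h := C.mul_mem (C.mul_mem (C.inv_mem n.2) (D.le_cent hu)) n.2
          simpa [mul_assoc] using h
        exact (hQmem ⟨u, huC⟩).1
          ((Subgroup.mem_normalizer_iff.1 hn ⟨u, huC⟩).2 ((hQmem _).2 hu))
    have hnT : (n : G) ∈ D.T := by
      refine (D.mem_or_of_mem_normalizer hnN).resolve_right fun ht => D.ha1 ?_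
      have h1 : D.t ∈ C := by
        have h2 := C.mul_mem (C.inv_mem (D.le_cent ht)) n.2
        simpa [mul_assoc] using h2
      have h3 := Subgroup.mem_centralizer_singleton_iff.1 h1
      have h4 := D.inv _ D.ha
      rw [h3, mul_inv_cancel_right] at h4
      have h5 := D.cube _ D.ha
      have h6 : D.a * D.a = 1 := eq_inv_iff_mul_eq_one.1 h4
      rwa [pow_succ, pow_two, h6, one_mul] at h5
    refine Subgroup.mem_centralizer_iff.2 fun q hq => Subtype.ext ?_
    exact D.comm _ ((hQmem q).1 hq) _ hnT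
  set f := MonoidHom.transferSylow Q hN with hf
  let i : (Q : Subgroup C) →* D.T :=
    { toFun := fun q => ⟨((q : C) : G), (hQmem q).1 q.2⟩
      map_one' := rfl
      map_mul' := fun _ _ => rfl }
  have hi : Function.Injective i := fun q r e =>
    Subtype.ext (Subtype.ext (congrArg (fun z : D.T => (z : G)) e))
  have hbij : Function.Bijective (f.domRestrict (Q : Subgroup C)) :=
    (MonoidHom.transferSylow_domRestrict_eq_pow Q hN).symm ▸
      (Q.2.powEquiv' Q.not_dvd_index).bijective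
  have hker : (i.comp f).ker = f.ker := by
    ext x; simp only [MonoidHom.mem_ker, MonoidHom.comp_apply, map_eq_one_iff i hi]
  refine ⟨⟨i.comp f, fun v w e => ?_, fun v hv x hx => ?_, ?_, ?_⟩⟩
  · refine D.el_inj ?_
    have h1 := hbij.1 (a₁ := ⟨⟨D.el v, D.le_cent (D.el_mem v)⟩, (hQmem _).2 (D.el_mem v)⟩)
      (a₂ := ⟨⟨D.el w, D.le_cent (D.el_mem w)⟩, (hQmem _).2 (D.el_mem w)⟩) (hi e)
    exact congrArg (fun z : (Q : Subgroup C) => ((z : C) : G)) h1
  · have hx3 : x ^ 3 = 1 := by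
      obtain ⟨g, hg⟩ := isConj_iff.1 hx
      refine Subtype.ext ?_
      show (x : G) ^ 3 = 1
      rw [← hg, conj_pow, D.cube _ (D.el_mem v), mul_one, mul_inv_cancel]
    have hz : IsPGroup 3 (Subgroup.zpowers x) := by
      have h1 : orderOf x ∣ 3 ^ 1 := by simpa using orderOf_dvd_of_pow_eq_one hx3
      obtain ⟨k, -, hk⟩ := (Nat.dvd_prime_pow Nat.prime_three).1 h1
      exact IsPGroup.of_card (n := k) (by rw [Nat.card_zpowers, hk])
    obtain ⟨R, hR⟩ := hz.exists_le_sylow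
    obtain ⟨h, rfl⟩ := MulAction.exists_smul_eq C Q R
    have h1 := hR (Subgroup.mem_zpowers x)
    rw [Sylow.coe_subgroup_smul, Subgroup.mem_pointwise_smul_iff_inv_smul_mem] at h1
    have h2 : h⁻¹ * x * h ∈ (Q : Subgroup C) := by simpa [MulAut.smul_def] using h1
    obtain ⟨w, hw⟩ := D.exists_el ((hQmem _).1 h2)
    have hfx : i.comp f x = i.comp f (h⁻¹ * x * h) := by
      refine Subtype.ext ?_
      simp only [map_mul, map_inv, Subgroup.coe_mul, Subgroup.coe_inv]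
      rw [mul_assoc, D.comm _ (i.comp f x).2 _ (i.comp f h).2, inv_mul_cancel_left]
    obtain ⟨g, hg⟩ := isConj_iff.1 hx
    have hgw : ((h : G)⁻¹ * g) * D.el v * ((h : G)⁻¹ * g)⁻¹ = D.el w := by
      rw [hw]
      simp only [Subgroup.coe_mul, Subgroup.coe_inv, ← hg]
      group
    have hxe : h⁻¹ * x * h = ⟨D.el w, D.le_cent (D.el_mem w)⟩ := Subtype.ext hw.symm
    rw [hfx, hxe]
    rcases D.conj_el hv hgw with rfl | rfl
    exacts [Or.inl rfl, Or.inr rfl]
  · rw [hker]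
    have h := (MonoidHom.ker_transferSylow_isComplement' Q hN).card_mul
    have hQc : Nat.card (Q : Subgroup C) = 9 := by
      have hQ : Nat.card ((P : Subgroup G).subgroupOf C) = Nat.card (P : Subgroup G) :=
        Nat.card_congr (Subgroup.subgroupOfEquivOfLe hle).toEquiv
      rw [show (Q : Subgroup C) = (P : Subgroup G).subgroupOf C from rfl, hQ, hP, D.card]
    rw [hQc] at h
    rw [mul_comm]
    exact h
  · rw [hker]
    exact MonoidHom.not_dvd_card_ker_transferSylow Q hN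

/-- elements of the second, first and product class -/
def v0 : V9 := (0, 1)
/-- see `v0` -/
def v1 : V9 := (1, 1)
/-- see `v0` -/
def v2 : V9 := (1, 2)

theorem v_facts : v0.2 ≠ 0 ∧ v1.2 ≠ 0 ∧ v2.2 ≠ 0 ∧ v1 ≠ v0 ∧ v1 ≠ -v0 ∧ v0 + v1 = v2 ∧
    v0 + v1 ≠ v0 ∧ v0 + -v1 ≠ v0 ∧ -v0 + v1 ≠ v0 ∧ -v0 + -v1 ≠ v0 ∧
    v0 + -v1 ≠ v2 ∧ -v0 + v1 ≠ v2 ∧ -v0 + -v1 ≠ v2 := by decide

theorem Retr.ph_mul {D : Data G} (R : Retr D) (v w : V9) :
    R.ph ⟨D.el v, D.le_cent (D.el_mem v)⟩ * R.ph ⟨D.el w, D.le_cent (D.el_mem w)⟩ =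
      R.ph ⟨D.el (v + w), D.le_cent (D.el_mem (v + w))⟩ := by
  rw [← map_mul]
  exact congrArg R.ph (Subtype.ext (D.el_add v w).symm)

/-- no solutions of `x y = el v0` with `x ~ el v0`, `y ~ el v1` -/
theorem Retr.pairCount_zero [Finite G] {D : Data G} (R : Retr D) :
    pairCount G (D.el v0) (D.el v1) (D.el v0) = 0 := by
  obtain ⟨n0, n1, -, h10, h10', -, e1, e2, e3, e4, -⟩ := v_facts
  rw [pairCount, Nat.card_eq_zero]
  refine Or.inl ⟨fun ⟨⟨g, k⟩, h⟩ => ?_⟩
  dsimp only at h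
  obtain ⟨hx, hy⟩ := D.mem_cent_of_mul n0 n0 h10 h10' h
  have e := map_mul R.ph ⟨_, hx⟩ ⟨_, hy⟩
  rw [show (⟨_, hx⟩ * ⟨_, hy⟩ : Subgroup.centralizer ({D.a} : Set G)) =
    ⟨D.el v0, D.le_cent (D.el_mem v0)⟩ from Subtype.ext h] at e
  rcases R.conj v0 n0 ⟨_, hx⟩ (isConj_iff.2 ⟨g, rfl⟩) with ex | ex <;>
    rcases R.conj v1 n1 ⟨_, hy⟩ (isConj_iff.2 ⟨k, rfl⟩) with ey | ey <;>
      rw [ex, ey, R.ph_mul] at e
  exacts [e1 (R.inj _ _ e).symm, e2 (R.inj _ _ e).symm, e3 (R.inj _ _ e).symm,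
    e4 (R.inj _ _ e).symm]

/-- at most `9 |C(a)|` solutions of the pair equation for the three different classes -/
theorem Retr.pairCount_le [Finite G] {D : Data G} (R : Retr D) :
    pairCount G (D.el v0) (D.el v1) (D.el v2) ≤
      9 * Nat.card (Subgroup.centralizer ({D.a} : Set G)) := by
  classical
  obtain ⟨n0, n1, n2, h10, h10', -, -, -, -, -, e2, e3, e4⟩ := v_facts
  set cx : G → G := fun g => g * D.el v0 * g⁻¹ with hcx
  set cy : G → G := fun g => g * D.el v1 * g⁻¹ with hcy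
  let S := {p : G × G // p.1 * D.el v0 * p.1⁻¹ * (p.2 * D.el v1 * p.2⁻¹) = D.el v2}
  have hC : ∀ p : S, cx p.1.1 ∈ Subgroup.centralizer ({D.a} : Set G) := fun p =>
    (D.mem_cent_of_mul n0 n2 h10 h10' p.2).1
  have hker : ∀ p : S, R.ph (⟨_, hC p⟩ * (⟨D.el v0, D.le_cent (D.el_mem v0)⟩)⁻¹) = 1 := by
    rintro ⟨⟨g, k⟩, h⟩
    obtain ⟨hx, hy⟩ := D.mem_cent_of_mul n0 n2 h10 h10' h
    have e := map_mul R.ph ⟨_, hx⟩ ⟨_, hy⟩
    rw [show (⟨_, hx⟩ * ⟨_, hy⟩ : Subgroup.centralizer ({D.a} : Set G)) =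
      ⟨D.el v2, D.le_cent (D.el_mem v2)⟩ from Subtype.ext h] at e
    rw [map_mul, map_inv, mul_inv_eq_one]
    rcases R.conj v0 n0 ⟨_, hx⟩ (isConj_iff.2 ⟨g, rfl⟩) with ex | ex
    · exact ex
    · exfalso
      rcases R.conj v1 n1 ⟨_, hy⟩ (isConj_iff.2 ⟨k, rfl⟩) with ey | ey <;>
        rw [ex, ey, R.ph_mul] at e
      exacts [e3 (R.inj _ _ e).symm, e4 (R.inj _ _ e).symm]
  have hg : ∀ g : G, (Function.invFun cx (cx g))⁻¹ * g ∈ D.T := fun g => by
    have h := Function.invFun_eq (f := cx) ⟨g, rfl⟩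
    refine D.mem_of_commute n0 ?_
    set g0 := Function.invFun cx (cx g)
    simp only [hcx] at h
    calc g0⁻¹ * g * D.el v0 = g0⁻¹ * (g * D.el v0 * g⁻¹) * g := by group
      _ = g0⁻¹ * (g0 * D.el v0 * g0⁻¹) * g := by rw [h]
      _ = D.el v0 * (g0⁻¹ * g) := by group
  have hk : ∀ g : G, (Function.invFun cy (cy g))⁻¹ * g ∈ D.T := fun g => by
    have h := Function.invFun_eq (f := cy) ⟨g, rfl⟩
    refine D.mem_of_commute n1 ?_
    set g0 := Function.invFun cy (cy g)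
    simp only [hcy] at h
    calc g0⁻¹ * g * D.el v1 = g0⁻¹ * (g * D.el v1 * g⁻¹) * g := by group
      _ = g0⁻¹ * (g0 * D.el v1 * g0⁻¹) * g := by rw [h]
      _ = D.el v1 * (g0⁻¹ * g) := by group
  let f : S → R.ph.ker × D.T × D.T := fun p =>
    (⟨_, MonoidHom.mem_ker.2 (hker p)⟩, ⟨_, hg p.1.1⟩, ⟨_, hk p.1.2⟩)
  have hf : Function.Injective f := by
    rintro ⟨⟨g, k⟩, h⟩ ⟨⟨g', k'⟩, h'⟩ e
    simp only [f, Prod.mk.injEq, Subtype.ext_iff, Subgroup.coe_mul, Subgroup.coe_inv] at e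
    obtain ⟨ex, eg, ek⟩ := e
    have exx : cx g = cx g' := mul_right_cancel ex
    have eyy : cy k = cy k' := by
      have h0 : cx g * cy k = cx g' * cy k' := h.trans h'.symm
      rw [exx] at h0
      exact mul_left_cancel h0
    rw [exx] at eg
    rw [eyy] at ek
    exact Subtype.ext (Prod.ext (mul_left_cancel eg) (mul_left_cancel ek))
  have h := Nat.card_le_card_of_injective f hf
  rw [Nat.card_prod, Nat.card_prod, D.card] at h
  have h9 := R.ker_card
  calc pairCount G (D.el v0) (D.el v1) (D.el v2) ≤ Nat.card R.ph.ker * (9 * 9) := h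
    _ = _ := by rw [← h9]; ring

theorem Data.pairCount_pos [Finite G] : 0 < pairCount G (D.el v0) (D.el v1) (D.el v2) := by
  rw [pairCount, Nat.card_pos_iff]
  obtain ⟨-, -, -, -, -, h, -⟩ := v_facts
  refine ⟨⟨⟨(1, 1), ?_⟩⟩, inferInstance⟩
  simp only [inv_one, one_mul, mul_one, ← D.el_add, h]

end CfsgLib.Recog.AltNine.FarSylow
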