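import Cfsg.Agent.Lib.Recog.AltNine.FarSylow.Setup
import Cfsg.Agent.Lib.Char.TI
import Mathlib.Analysis.SpecialFunctions.Complex.CircleAddChar

/-!
# The three induced class functions
-/

set_option autoImplicit false

namespace CfsgLib.Recog.AltNine.FarSylow

open scoped ComplexConjugate

universe u

variable {G : Type u} [Group G]

/-- a nontrivial character of the residues modulo three -/
noncomputable def w3 : AddChar (ZMod 3) ℂ := ZMod.stdAddChar

theorem w3_add_neg (z : ZMod 3) : w3 z + w3 (-z) = ((if z = 0 then 2 else -1 : ℤ) : ℂ) := by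
  have hne : w3 ≠ 0 := fun h => by
    have h1 := ZMod.isPrimitive_stdAddChar 3 one_ne_zero
    rw [AddChar.mulShift_one] at h1
    exact h1 h
  have h : ∑ x : ZMod 3, w3 x = 0 := AddChar.sum_eq_zero_iff_ne_zero.2 hne
  rw [show (Finset.univ : Finset (ZMod 3)) = {0, 1, 2} from by decide,
    Finset.sum_insert (by decide), Finset.sum_insert (by decide), Finset.sum_singleton] at h
  have h0 : w3 (0 : ZMod 3) = 1 := AddChar.map_zero_eq_one _
  obtain rfl | rfl | rfl : z = 0 ∨ z = 1 ∨ z = 2 := by revert z; decide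
  · rw [neg_zero, h0, if_pos rfl]; norm_num
  · rw [show (-1 : ZMod 3) = 2 from by decide, if_neg (by decide)]
    push_cast
    linear_combination h - h0
  · rw [show (-2 : ZMod 3) = 1 from by decide, if_neg (by decide)]
    push_cast
    linear_combination h - h0

/-- first linear form of each function -/
def formA : Fin 3 → V9 → ZMod 3 := ![fun _ => 0, fun v => v.1, fun v => v.1 - v.2]

/-- second linear form of each function -/
def formB : Fin 3 → V9 → ZMod 3 := ![fun v => v.2, fun v => v.1 - v.2, fun v => v.1 + v.2]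

/-- the symmetrised values -/
def hv (k : Fin 3) (v : V9) : ℤ :=
  (if formA k v = 0 then 2 else -1) - (if formB k v = 0 then 2 else -1)

/-- the Gram matrix -/
def gram : Fin 3 → Fin 3 → ℤ := ![![3, 0, 0], ![0, 2, -1], ![0, -1, 2]]

theorem forms_add : ∀ k v w, formA k (v + w) = formA k v + formA k w ∧
    formB k (v + w) = formB k v + formB k w := by decide +kernel

theorem forms_axis : ∀ k v, v.2 = (0 : ZMod 3) → formA k v = formB k v := by decide +kernel

theorem forms_neg : ∀ k v, formA k (-v) = -formA k v ∧ formB k (-v) = -formB k v := by decide +kernel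

theorem hv_gram : ∀ j k, ∑ v : V9, hv j v * hv k v = 18 * gram j k := by decide +kernel

theorem hv_axis : ∀ k v, v.2 = (0 : ZMod 3) → hv k v = 0 := by decide +kernel

theorem hv_sum : ∀ k, ∑ v : V9, hv k v = 18 * ![1, 0, 0] k := by decide +kernel

variable (D : Data G) [Finite G]

/-- coordinates -/
noncomputable def Data.equiv : V9 ≃ D.T := Equiv.ofBijective _ D.el_bij

theorem Data.equiv_apply (v : V9) : (D.equiv v : G) = D.el v := rfl

theorem Data.crd_mul (x y : D.T) : D.equiv.symm (x * y) = D.equiv.symm x + D.equiv.symm y := by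
  rw [Equiv.symm_apply_eq]
  refine Subtype.ext ?_
  rw [D.equiv_apply, D.el_add, ← D.equiv_apply, ← D.equiv_apply, Equiv.apply_symm_apply,
    Equiv.apply_symm_apply, Subgroup.coe_mul]

/-- the difference of two linear characters -/
noncomputable def Data.g (k : Fin 3) (x : D.T) : ℂ :=
  w3 (formA k (D.equiv.symm x)) - w3 (formB k (D.equiv.symm x))

theorem Data.g_gen (k : Fin 3) : Cfsg.IsGeneralizedCharacter D.T (D.g k) := by
  have hlin : ∀ f : V9 → ZMod 3, (∀ v w, f (v + w) = f v + f w) →
      Cfsg.IsGeneralizedCharacter D.T fun x => w3 (f (D.equiv.symm x)) := by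
    intro f hf
    have h0 : f 0 = 0 := by simpa using hf 0 0
    let m : D.T →* ℂ :=
      { toFun := fun x => w3 (f (D.equiv.symm x))
        map_one' := by
          have h1 : D.equiv.symm (1 : D.T) = 0 := by simpa using D.crd_mul 1 1
          rw [h1, h0, AddChar.map_zero_eq_one]
        map_mul' := fun x y => by rw [D.crd_mul, hf, AddChar.map_add_eq_mul] }
    have h := CfsgLib.Char.isIrrCharacter_linear m.toHomUnits
    simp only [MonoidHom.coe_toHomUnits] at h
    exact CfsgLib.Char.isGeneralized_of_isCharacter (CfsgLib.Char.irr_isCharacter h)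
  exact CfsgLib.Char.isGeneralized_sub (hlin _ fun v w => (forms_add k v w).1)
    (hlin _ fun v w => (forms_add k v w).2)

theorem Data.g_add_neg (k : Fin 3) (v : V9) :
    D.g k (D.equiv v) + D.g k (D.equiv (-v)) = (hv k v : ℂ) := by
  simp only [Data.g, Equiv.symm_apply_apply, forms_neg, hv]
  push_cast
  have e1 := w3_add_neg (formA k v)
  have e2 := w3_add_neg (formB k v)
  push_cast at e1 e2
  linear_combination e1 - e2

theorem Data.g_axis (k : Fin 3) {v : V9} (h : v.2 = 0) : D.g k (D.equiv v) = 0 := by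
  simp [Data.g, forms_axis k v h]

variable [Fintype G]

/-- the induced class functions -/
noncomputable def Data.U (k : Fin 3) : G → ℂ := Cfsg.indFun D.T (D.g k)

theorem Data.U_gen (k : Fin 3) : Cfsg.IsGeneralizedCharacter G (D.U k) :=
  CfsgLib.Char.isGeneralized_indFun _ (D.g_gen k)

theorem Data.U_one (k : Fin 3) : D.U k 1 = 0 := by
  have h1 : (1 : D.T) = D.equiv 0 := Subtype.ext D.el_zero.symm
  rw [Data.U, CfsgLib.Char.indFun_apply_one, h1, D.g_axis k rfl, mul_zero]

theorem Data.U_el (k : Fin 3) {v : V9} (hv' : v.2 ≠ 0) : D.U k (D.el v) = (hv k v : ℂ) := by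
  classical
  set N := Subgroup.normalizer (D.T : Set G)
  have hterm : ∀ x : G, Cfsg.extendByZero D.T (D.g k) (x⁻¹ * D.el v * x) =
      (if x ∈ D.T then D.g k (D.equiv v) - D.g k (D.equiv (-v)) else 0) +
        (if x ∈ N then D.g k (D.equiv (-v)) else 0) := by
    intro x
    by_cases hx : x ∈ N
    · rcases D.mem_or_of_mem_normalizer hx with hT | hT
      · rw [if_pos hT, if_pos hx]
        have e : x⁻¹ * D.el v * x = (D.equiv v : G) := by
          rw [D.equiv_apply, mul_assoc, D.comm _ (D.el_mem v) x hT, inv_mul_cancel_left]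
        rw [e, CfsgLib.Char.extendByZero_coe]
        ring
      · have hxT : x ∉ D.T := fun h => D.tT <| by
          simpa using D.T.mul_mem (D.T.inv_mem hT) h
        rw [if_neg hxT, if_pos hx]
        have e : x⁻¹ * D.el v * x = (D.equiv (-v) : G) := by
          have ht : D.t⁻¹ * D.el v * D.t = D.el (-v) := by
            calc D.t⁻¹ * D.el v * D.t = D.t⁻¹ * (D.t * D.el (-v) * D.t⁻¹) * D.t := by
                  rw [D.inv_el, neg_neg]
              _ = D.el (-v) := by group
          have h2 : (x * D.t⁻¹)⁻¹ * D.el v * (x * D.t⁻¹) = D.el v := by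
            rw [mul_assoc, D.comm _ (D.el_mem v) _ hT, inv_mul_cancel_left]
          calc x⁻¹ * D.el v * x
              = D.t⁻¹ * ((x * D.t⁻¹)⁻¹ * D.el v * (x * D.t⁻¹)) * D.t := by group
            _ = D.el (-v) := by rw [h2, ht]
        rw [e, CfsgLib.Char.extendByZero_coe]
        ring
    · rw [if_neg hx, if_neg fun h => hx (Subgroup.le_normalizer h), add_zero]
      refine CfsgLib.Char.extendByZero_of_not_mem _ fun h => hx ?_
      simpa using inv_mem (D.mem_normalizer_of_conj hv' (g := x⁻¹) (by simpa using h))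
  rw [Data.U, CfsgLib.Char.indFun_def, Finset.sum_congr rfl fun x _ => hterm x,
    Finset.sum_add_distrib, ← Finset.sum_filter, ← Finset.sum_filter, Finset.sum_const,
    Finset.sum_const, nsmul_eq_mul, nsmul_eq_mul, ← Fintype.card_subtype, ← Fintype.card_subtype,
    ← Nat.card_eq_fintype_card, ← Nat.card_eq_fintype_card,
    show Nat.card { x : G // x ∈ D.T } = 9 from D.card,
    show Nat.card { x : G // x ∈ N } = 18 from D.cardN,
    ← D.g_add_neg]
  push_cast
  ring

theorem Data.inner_eq (k : Fin 3) {φ : G → ℂ} (hφ : Cfsg.IsClassFunction G φ) :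
    Cfsg.classInner (D.U k) φ = (18 : ℂ)⁻¹ * ∑ v : V9, (hv k v : ℂ) * conj (φ (D.el v)) := by
  classical
  haveI := Fintype.ofFinite D.T
  rw [Data.U, CfsgLib.Char.frobenius_reciprocity D.T _ φ hφ, CfsgLib.Char.classInner_def, D.card,
    ← Equiv.sum_comp D.equiv]
  simp only [D.equiv_apply]
  have hneg : ∀ v : V9, φ (D.el (-v)) = φ (D.el v) := fun v => by rw [← D.inv_el, hφ]
  have h2 : ∑ v : V9, D.g k (D.equiv v) * conj (φ (D.el v)) =
      ∑ v : V9, D.g k (D.equiv (-v)) * conj (φ (D.el v)) := by
    refine Fintype.sum_equiv (Equiv.neg V9) _ _ fun v => ?_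
    simp [hneg]
  have h3 : ∑ v : V9, (hv k v : ℂ) * conj (φ (D.el v)) =
      2 * ∑ v : V9, D.g k (D.equiv v) * conj (φ (D.el v)) := by
    rw [two_mul]
    nth_rw 2 [h2]
    rw [← Finset.sum_add_distrib]
    exact Finset.sum_congr rfl fun v _ => by rw [← D.g_add_neg]; ring
  rw [h3]
  push_cast
  ring

theorem Data.U_gram (j k : Fin 3) : Cfsg.classInner (D.U j) (D.U k) = (gram j k : ℂ) := by
  rw [D.inner_eq j (CfsgLib.Char.isGeneralized_isClassFunction (D.U_gen k))]
  have h : ∀ v : V9, (hv j v : ℂ) * conj (D.U k (D.el v)) = ((hv j v * hv k v : ℤ) : ℂ) := by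
    intro v
    by_cases hz : v.2 = 0
    · simp [hv_axis j v hz]
    · rw [D.U_el k hz, map_intCast, Int.cast_mul]
  rw [Finset.sum_congr rfl fun v _ => h v, ← Int.cast_sum, hv_gram]
  push_cast
  ring

theorem Data.U_inner_one (k : Fin 3) :
    Cfsg.classInner (D.U k) (fun _ => (1 : ℂ)) = ((![1, 0, 0] k : ℤ) : ℂ) := by
  rw [D.inner_eq k (fun _ _ => rfl)]
  simp only [map_one, mul_one]
  rw [← Int.cast_sum, hv_sum]
  push_cast
  ring

/-- representatives of the three classes of elements outside `⟨a⟩` -/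
def qv : Fin 3 → V9 := ![(0, 1), (1, 1), (2, 1)]

theorem qv_ne : ∀ p, (qv p).2 ≠ 0 := by decide

theorem Data.inner_values (k : Fin 3) {φ : G → ℂ} (hφ : Cfsg.IsClassFunction G φ) :
    Cfsg.classInner (D.U k) φ = (9 : ℂ)⁻¹ * ∑ p : Fin 3, (hv k (qv p) : ℂ) * conj (φ (D.el (qv p))) := by
  have hneg : ∀ v : V9, φ (D.el (-v)) = φ (D.el v) := fun v => by rw [← D.inv_el, hφ]
  rw [D.inner_eq k hφ]
  have hu : (Finset.univ : Finset V9) = {(0,0), (1,0), (2,0), (0,1), (1,1), (2,1), (0,2), (2,2), (1,2)} :=
    by decide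
  rw [hu, Finset.sum_insert (by decide), Finset.sum_insert (by decide),
    Finset.sum_insert (by decide), Finset.sum_insert (by decide), Finset.sum_insert (by decide),
    Finset.sum_insert (by decide), Finset.sum_insert (by decide), Finset.sum_insert (by decide),
    Finset.sum_singleton, Fin.sum_univ_three]
  have e0 := hneg (0, 1)
  have e1 := hneg (1, 1)
  have e2 := hneg (2, 1)
  rw [show (-((0, 1) : V9)) = (0, 2) from by decide] at e0
  rw [show (-((1, 1) : V9)) = (2, 2) from by decide] at e1
  rw [show (-((2, 1) : V9)) = (1, 2) from by decide] at e2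
  rw [e0, e1, e2, hv_axis k (0, 0) rfl, hv_axis k (1, 0) rfl, hv_axis k (2, 0) rfl]
  have f : ∀ v, hv k (-v) = hv k v := by revert k; decide +kernel
  rw [show ((0, 2) : V9) = -(0, 1) from by decide, show ((2, 2) : V9) = -(1, 1) from by decide,
    show ((1, 2) : V9) = -(2, 1) from by decide, f, f, f,
    show qv 0 = (0, 1) from rfl, show qv 1 = (1, 1) from rfl, show qv 2 = (2, 1) from rfl]
  push_cast
  ring

end CfsgLib.Recog.AltNine.FarSylow
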