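import Cfsg.Agent.Lib.Recog.AltNine.FarSylow.Triangle
import Cfsg.Agent.Lib.Char.Induce

/-!
# A Sylow 3-subgroup of order nine with inverting normaliser: coordinates and fusion
-/

set_option autoImplicit false

namespace CfsgLib.Recog.AltNine.FarSylow

universe u

variable {G : Type u} [Group G]

/-- pairs of residues modulo three -/
abbrev V9 : Type := ZMod 3 × ZMod 3

/-- `T` of order nine, inverted by its normaliser of order eighteen; the centralisers of the
elements outside `⟨a⟩` lie in `T`. -/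
structure Data (G : Type u) [Group G] where
  T : Subgroup G
  a : G
  b : G
  t : G
  card : Nat.card T = 9
  cube : ∀ x ∈ T, x ^ 3 = 1
  comm : ∀ x ∈ T, ∀ y ∈ T, x * y = y * x
  ha : a ∈ T
  hb : b ∈ T
  hb' : b ∉ Subgroup.zpowers a
  ha1 : a ≠ 1
  cardN : Nat.card (Subgroup.normalizer (T : Set G)) = 18
  tN : t ∈ Subgroup.normalizer (T : Set G)
  tT : t ∉ T
  inv : ∀ x ∈ T, t * x * t⁻¹ = x⁻¹
  cent : ∀ s ∈ T, s ∉ Subgroup.zpowers a → Subgroup.centralizer ({s} : Set G) ≤ T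

variable (D : Data G)

theorem Data.pow_mod {x : G} (hx : x ∈ D.T) (n : ℕ) : x ^ (n % 3) = x ^ n := by
  conv_rhs => rw [← Nat.mod_add_div n 3, pow_add, pow_mul, D.cube x hx, one_pow, mul_one]

/-- the element with the given coordinates -/
def Data.el (v : V9) : G := D.a ^ v.1.val * D.b ^ v.2.val

theorem Data.el_mem (v : V9) : D.el v ∈ D.T :=
  D.T.mul_mem (D.T.pow_mem D.ha _) (D.T.pow_mem D.hb _)

theorem Data.el_zero : D.el 0 = 1 := by simp [Data.el]

theorem Data.el_add (v w : V9) : D.el (v + w) = D.el v * D.el w := by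
  have hc : Commute (D.b ^ v.2.val) (D.a ^ w.1.val) :=
    D.comm _ (D.T.pow_mem D.hb _) _ (D.T.pow_mem D.ha _)
  simp only [Data.el, Prod.fst_add, Prod.snd_add, ZMod.val_add, D.pow_mod D.ha, D.pow_mod D.hb,
    pow_add]
  rw [mul_assoc (D.a ^ v.1.val), mul_assoc (D.a ^ v.1.val), ← mul_assoc (D.b ^ v.2.val), hc.eq,
    mul_assoc]

theorem Data.el_neg (v : V9) : D.el (-v) = (D.el v)⁻¹ := by
  refine eq_inv_of_mul_eq_one_left ?_
  rw [← D.el_add, neg_add_cancel, D.el_zero]

theorem Data.el_snd {v : V9} (h : D.el v ∈ Subgroup.zpowers D.a) : v.2 = 0 := by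
  by_contra hv
  have h1 : D.b ^ v.2.val ∈ Subgroup.zpowers D.a :=
    ((Subgroup.zpowers D.a).mul_mem_cancel_left (Subgroup.pow_mem _ (Subgroup.mem_zpowers _) _)).1 h
  refine D.hb' ?_
  have h2 : v.2.val = 1 ∨ v.2.val = 2 := by
    have hlt := ZMod.val_lt v.2
    have hne : v.2.val ≠ 0 := fun e => hv ((ZMod.val_eq_zero _).1 e)
    omega
  rcases h2 with h2 | h2 <;> rw [h2] at h1
  · simpa using h1
  · have h3 := Subgroup.pow_mem _ h1 2
    rw [← pow_mul, ← D.pow_mod D.hb] at h3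
    simpa using h3

theorem Data.el_inj : Function.Injective D.el := by
  intro v w h
  have h1 : D.el (v - w) = 1 := by
    rw [sub_eq_add_neg, D.el_add, D.el_neg, h, mul_inv_cancel]
  have h2 : (v - w).2 = 0 := D.el_snd (h1 ▸ one_mem _)
  have h3 : (v - w).1 = 0 := by
    by_contra hv
    simp only [Data.el, h2, ZMod.val_zero, pow_zero, mul_one] at h1
    have h4 := orderOf_dvd_of_pow_eq_one h1
    have hlt := ZMod.val_lt (v - w).1
    have hne : (v - w).1.val ≠ 0 := fun e => hv ((ZMod.val_eq_zero _).1 e)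
    rcases (Nat.dvd_prime Nat.prime_three).1 (orderOf_dvd_of_pow_eq_one (D.cube _ D.ha)) with e | e
    · exact D.ha1 (orderOf_eq_one_iff.1 e)
    · rw [e] at h4
      have := Nat.le_of_dvd (Nat.pos_of_ne_zero hne) h4
      omega
  exact sub_eq_zero.1 (Prod.ext h3 h2)

theorem Data.el_bij [Finite G] :
    Function.Bijective (fun v : V9 => (⟨D.el v, D.el_mem v⟩ : D.T)) := by
  refine (Nat.bijective_iff_injective_and_card _).2 ⟨fun v w h => D.el_inj ?_, ?_⟩
  · exact congrArg Subtype.val h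
  · rw [D.card]; simp

theorem Data.exists_el [Finite G] {x : G} (hx : x ∈ D.T) : ∃ v, D.el v = x := by
  obtain ⟨v, hv⟩ := D.el_bij.2 ⟨x, hx⟩
  exact ⟨v, congrArg Subtype.val hv⟩

theorem Data.mem_of_commute {v : V9} (hv : v.2 ≠ 0) {x : G} (h : x * D.el v = D.el v * x) :
    x ∈ D.T :=
  D.cent _ (D.el_mem v) (fun e => hv (D.el_snd e)) (Subgroup.mem_centralizer_singleton_iff.2 h)

theorem Data.inv_el (v : V9) : D.t * D.el v * D.t⁻¹ = D.el (-v) := by
  rw [D.inv _ (D.el_mem v), D.el_neg]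

theorem Data.mem_or_of_mem_normalizer [Finite G] {g : G}
    (hg : g ∈ Subgroup.normalizer (D.T : Set G)) : g ∈ D.T ∨ g * D.t⁻¹ ∈ D.T := by
  set N := Subgroup.normalizer (D.T : Set G)
  have h2 : (D.T.subgroupOf N).index = 2 := by
    have h := (D.T.subgroupOf N).card_mul_index
    rw [Nat.card_congr (Subgroup.subgroupOfEquivOfLe Subgroup.le_normalizer).toEquiv, D.card,
      D.cardN] at h
    omega
  by_cases hgT : g ∈ D.T
  · exact Or.inl hgT
  · refine Or.inr ?_
    have h := Subgroup.mul_mem_iff_of_index_two h2 (a := ⟨g, hg⟩) (b := (⟨D.t, D.tN⟩ : N)⁻¹)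
    simp only [Subgroup.mem_subgroupOf, inv_mem_iff, Subgroup.coe_mul, Subgroup.coe_inv] at h
    exact h.2 ⟨fun e => absurd e hgT, fun e => absurd e D.tT⟩

theorem Data.mem_normalizer_of_conj [Finite G] {v : V9} (hv : v.2 ≠ 0) {g : G}
    (h : g * D.el v * g⁻¹ ∈ D.T) : g ∈ Subgroup.normalizer (D.T : Set G) := by
  have hsub : ∀ u ∈ D.T, g⁻¹ * u * g ∈ D.T := by
    intro u hu
    refine D.mem_of_commute hv ?_
    have e := D.comm u hu _ h
    calc g⁻¹ * u * g * D.el v = g⁻¹ * (u * (g * D.el v * g⁻¹)) * g := by group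
      _ = g⁻¹ * ((g * D.el v * g⁻¹) * u) * g := by rw [e]
      _ = D.el v * (g⁻¹ * u * g) := by group
  have h1 : g⁻¹ ∈ Subgroup.normalizer (D.T : Set G) := by
    let f : D.T → D.T := fun u => ⟨g⁻¹ * u * g, hsub u u.2⟩
    have hf : Function.Bijective f := by
      refine Finite.injective_iff_bijective.1 fun u w e => Subtype.ext ?_
      simpa [f] using congrArg Subtype.val e
    refine Subgroup.mem_normalizer_iff.2 fun u => ⟨fun hu => by simpa using hsub u hu, fun hu => ?_⟩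
    obtain ⟨w, hw⟩ := hf.2 ⟨_, hu⟩
    have hw' : g⁻¹ * (w : G) * g = g⁻¹ * u * g⁻¹⁻¹ := congrArg Subtype.val hw
    rw [inv_inv] at hw'
    have : (w : G) = u := by simpa using hw'
    exact this ▸ w.2
  simpa using inv_mem h1

theorem Data.conj_el [Finite G] {v : V9} (hv : v.2 ≠ 0) {g : G} {w : V9}
    (h : g * D.el v * g⁻¹ = D.el w) : w = v ∨ w = -v := by
  rcases D.mem_or_of_mem_normalizer (D.mem_normalizer_of_conj hv (h ▸ D.el_mem w)) with hg | hg
  · refine Or.inl (D.el_inj ?_)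
    rw [← h, D.comm g hg _ (D.el_mem v), mul_inv_cancel_right]
  · refine Or.inr (D.el_inj ?_)
    rw [← h]
    have e : g * D.el v * g⁻¹ =
        (g * D.t⁻¹) * (D.t * D.el v * D.t⁻¹) * (g * D.t⁻¹)⁻¹ := by group
    rw [e, D.inv_el, D.comm _ hg _ (D.el_mem (-v)), mul_inv_cancel_right]

theorem Data.not_isConj [Finite G] {v w : V9} (hv : v.2 ≠ 0) (h1 : w ≠ v) (h2 : w ≠ -v) :
    ¬ IsConj (D.el v) (D.el w) := fun h => by
  obtain ⟨g, hg⟩ := isConj_iff.1 h
  rcases D.conj_el hv hg with e | e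
  exacts [h1 e, h2 e]

end CfsgLib.Recog.AltNine.FarSylow
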