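import Mathlib

/-!
# Two non-conjugate elements of order three with product of order three

They commute with a common element of order three.
-/

set_option autoImplicit false

namespace CfsgLib.Recog.AltNine.FarSylow

universe u

variable {G : Type u} [Group G]

/-- If `x³ = y³ = (x y)³ = 1` and `x`, `y` are not conjugate, then a common element of order three
commutes with both. -/
theorem exists_commute_three [Finite G] {x y : G} (hx : x ^ 3 = 1) (hy : y ^ 3 = 1)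
    (hxy : (x * y) ^ 3 = 1) (hne : ¬ IsConj x y) :
    ∃ c : G, c ≠ 1 ∧ c ^ 3 = 1 ∧ Commute x c ∧ Commute c y := by
  set d0 := x⁻¹ * y with hd0
  set d1 := y * x⁻¹ with hd1
  set d2 := x * y * x with hd2
  have hx' : x * x * x = 1 := by simpa [pow_succ] using hx
  have hy' : y * y * y = 1 := by simpa [pow_succ] using hy
  have hz : x * y * (x * y) * (x * y) = 1 := by simpa [pow_succ] using hxy
  have hxinv : x⁻¹ = x * x := inv_eq_of_mul_eq_one_right (by rw [← mul_assoc, hx'])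
  have hyxy : y * x * y = x⁻¹ * y⁻¹ * x⁻¹ := by
    have e : (x * y * x) * (y * x * y) = 1 := by rw [← hz]; group
    rw [eq_inv_of_mul_eq_one_right e]
    group
  have hyinv : y⁻¹ = y * y := inv_eq_of_mul_eq_one_right (by rw [← mul_assoc, hy'])
  have s0 : x * d0 * x⁻¹ = d1 := by rw [hd0, hd1]; group
  have hii : x⁻¹ * x⁻¹ = x := by
    rw [hxinv, show x * x * (x * x) = x * x * x * x by group, hx', one_mul]
  have s1 : x * d1 * x⁻¹ = d2 := by
    rw [hd1, hd2, show x * (y * x⁻¹) * x⁻¹ = x * y * (x⁻¹ * x⁻¹) by group, hii]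
  have s2 : x * d2 * x⁻¹ = d0 := by
    rw [hd2, hd0, show x * (x * y * x) * x⁻¹ = x * x * y by group, hxinv]
  have hprod : d0 * d1 * d2 = 1 := by
    rw [hd0, hd1, hd2, show x⁻¹ * y * (y * x⁻¹) * (x * y * x) = x⁻¹ * (y * y * y) * x by group,
      hy']
    group
  have c01 : Commute d0 d1 := by
    show d0 * d1 = d1 * d0
    rw [hd0, hd1, show x⁻¹ * y * (y * x⁻¹) = x⁻¹ * (y * y) * x⁻¹ by group, ← hyinv, ← hyxy,
      show y * x⁻¹ * (x⁻¹ * y) = y * (x⁻¹ * x⁻¹) * y by group, hii]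
  have c12 : Commute d1 d2 := by
    rw [← s0, ← s1]
    exact Commute.map c01 (MulAut.conj x).toMonoidHom
  have c20 : Commute d2 d0 := by
    rw [← s1, ← s2]
    exact Commute.map c12 (MulAut.conj x).toMonoidHom
  have hyd : y = x * d0 := by rw [hd0]; group
  by_cases h3 : 3 ∣ orderOf d0
  · obtain ⟨m, hm⟩ := h3
    set a0 := d0 ^ m with ha0
    set a1 := d1 ^ m with ha1
    set a2 := d2 ^ m with ha2
    have q0 : a0 ^ 3 = 1 := by rw [ha0, ← pow_mul, mul_comm m 3, ← hm, pow_orderOf_eq_one]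
    have t0 : x * a0 * x⁻¹ = a1 := by rw [ha0, ← conj_pow, s0]
    have t1 : x * a1 * x⁻¹ = a2 := by rw [ha1, ← conj_pow, s1]
    have q1 : a1 ^ 3 = 1 := by rw [← t0, conj_pow, q0, mul_one, mul_inv_cancel]
    have ne0 : a0 ≠ 1 := fun e => by
      have h1 := orderOf_dvd_of_pow_eq_one (ha0 ▸ e)
      have := orderOf_pos d0
      rcases Nat.eq_zero_or_pos m with rfl | hm0
      · omega
      · have := Nat.le_of_dvd hm0 h1
        omega
    obtain ⟨c, hc1, hc3, hcx, hcd⟩ : ∃ c : G, c ≠ 1 ∧ c ^ 3 = 1 ∧ Commute x c ∧ Commute c d0 := by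
      have cc : Commute a0 d0 := Commute.pow_left rfl m
      have cc1 : Commute a1 d0 := c01.symm.pow_left m
      have e012 : a0 * a1 * a2 = 1 := by
        rw [ha0, ha1, ha2, ← c01.mul_pow, ← (Commute.mul_left c20.symm c12).mul_pow, hprod,
          one_pow]
      by_cases e1 : a1 = a0
      · refine ⟨a0, ne0, q0, ?_, cc⟩
        show x * a0 = a0 * x
        have := t0.trans e1
        rwa [mul_inv_eq_iff_eq_mul] at this
      · refine ⟨a1 * a0⁻¹, fun e => e1 (mul_inv_eq_one.1 e), ?_, ?_, cc1.mul_left cc.inv_left⟩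
        · rw [((c01.symm.pow_pow m m).inv_right).mul_pow, inv_pow, q0, q1, inv_one, mul_one]
        · show x * (a1 * a0⁻¹) = a1 * a0⁻¹ * x
          have h01 : Commute a0 a1 := c01.pow_pow m m
          have ha2' : a2 = (a0 * a1)⁻¹ := eq_inv_of_mul_eq_one_right e012
          have key : x * (a1 * a0⁻¹) * x⁻¹ = a1 * a0⁻¹ := by
            rw [show x * (a1 * a0⁻¹) * x⁻¹ = (x * a1 * x⁻¹) * (x * a0 * x⁻¹)⁻¹ by group, t1, t0,
              ha2', mul_inv_rev]
            have e : a1⁻¹ * a0⁻¹ * a1⁻¹ = (a1⁻¹ * a1⁻¹) * a0⁻¹ := by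
              rw [mul_assoc, (h01.inv_left.inv_right).eq, ← mul_assoc]
            rw [e, ← mul_inv_rev, inv_eq_of_mul_eq_one_right (b := a1)
              (by rw [← q1, pow_succ, pow_two])]
          rwa [mul_inv_eq_iff_eq_mul] at key
    exact ⟨c, hc1, hc3, hcx, by rw [hyd]; exact hcx.symm.mul_right hcd⟩
  · exfalso
    have hcop : (3 : ℕ).Coprime (orderOf d0) := (Nat.prime_three.coprime_iff_not_dvd).2 h3
    obtain ⟨k, hk⟩ := exists_pow_eq_self_of_coprime hcop
    refine hne (isConj_iff.2 ⟨(d1 * d0⁻¹) ^ k, ?_⟩)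
    have hxb : x⁻¹ * (d1 * d0⁻¹) ^ k * x = (d0 * d2⁻¹) ^ k := by
      have e := conj_pow (a := x⁻¹) (b := d1 * d0⁻¹) (i := k)
      rw [inv_inv] at e
      rw [← e]
      congr 1
      rw [show x⁻¹ * (d1 * d0⁻¹) * x = (x⁻¹ * d1 * x) * (x⁻¹ * d0 * x)⁻¹ by group]
      congr 1
      · rw [← s0]; group
      · rw [← s2]; group
    have hcm : Commute (d0 * d2⁻¹) (d1 * d0⁻¹) :=
      ((c01.mul_right (Commute.refl d0).inv_right)).mul_left
        ((c12.symm.mul_right c20.inv_right).inv_left)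
    have hd12 : d1 * d2 = d0⁻¹ := by
      rw [mul_assoc] at hprod
      exact eq_inv_of_mul_eq_one_right hprod
    have e3 : (d0 * d2⁻¹) * (d1 * d0⁻¹)⁻¹ = d0 ^ 3 := by
      rw [mul_inv_rev d1 d0⁻¹, inv_inv d0,
        show d0 * d2⁻¹ * (d0 * d1⁻¹) = d0 * (d2⁻¹ * d0) * d1⁻¹ by group,
        c20.inv_left.eq, show d0 * (d0 * d2⁻¹) * d1⁻¹ = d0 * d0 * (d1 * d2)⁻¹ by group, hd12,
        inv_inv, pow_succ, pow_two]
    have hd : x⁻¹ * (d1 * d0⁻¹) ^ k * x * ((d1 * d0⁻¹) ^ k)⁻¹ = d0 := by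
      rw [hxb, ← inv_pow, ← hcm.inv_right.mul_pow, e3, hk]
    calc (d1 * d0⁻¹) ^ k * x * ((d1 * d0⁻¹) ^ k)⁻¹
        = x * (x⁻¹ * (d1 * d0⁻¹) ^ k * x * ((d1 * d0⁻¹) ^ k)⁻¹) := by group
      _ = y := by rw [hd, hd0]; group

end CfsgLib.Recog.AltNine.FarSylow
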